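import Cfsg.Agent.H846.E72.JTwoHom

/-!
# The row `J₂` of S5935 (TEAM E72)

Main result: `not_j2 : Spor.IsoJ2 G → ¬ Adm G`.
-/

set_option autoImplicit false

namespace Cfsg.Agent.H846.E72

open Cfsg IsLocalRing Module Cfsg.Agent.H657 Cfsg.Agent.H943.E7V Semi AFive Data
open Cfsg.Agent.J2.HundredGens

theorem sum_one {N : Type*} [Group N] [Fintype N] (F : N → ℂ) {A B : ℂ} (h1 : F 1 = A)
    (h : ∀ c, c ≠ 1 → F c = B) : ∑ c, F c = A + (Fintype.card N - 1) * B := by
  classical
  have h2 : ∀ c, F c = (if c = 1 then A - B else 0) + B := by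
    intro c
    by_cases hc : c = 1
    · rw [hc, h1, if_pos rfl]
      ring
    · rw [h c hc, if_neg hc, zero_add]
  simp only [h2, Finset.sum_add_distrib, Finset.sum_ite_eq', Finset.mem_univ, if_true, Finset.sum_const,
    Finset.card_univ, nsmul_eq_mul]
  ring

theorem x_ne : x ≠ 1 := el_ne (by decide +kernel)
theorem z_ne : z ≠ 1 := el_ne (by decide +kernel)
theorem y_ne : y ≠ 1 := el_ne (by decide +kernel)

theorem chk_ab : ∀ i j : C 5, (i, j) ≠ 1 → chk (rep wa i.toAdd.val ++ rep wb j.toAdd.val) [] = false := by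
  decide +kernel

/-- the word of the 5-cycle in the `A₅` centralizing `y` -/
def wr : List ℕ := wz ++ wY1 ++ wY2

theorem chk_yr : ∀ i : C 5, chk (rep wy i.toAdd.val ++ wr) [] = false ∧
    chk (rep wy i.toAdd.val ++ (wr ++ wr)) [] = false := by
  decide +kernel

theorem pow_five : ∀ v1 v2 : C 5, (v1, v2) ^ 5 = 1 := by decide +kernel

theorem conj3 : ∀ i j : C 3, i ≠ 1 → ∃ k : C 3,
    ((⟨1, k⟩ : T2) * ⟨(i, 1), 1⟩ * (⟨1, k⟩ : T2)⁻¹) = ⟨(i, j), 1⟩ := by decide +kernel

theorem five_pow : ∀ g : A5, fx g = 0 → g ^ 5 = 1 := by decide +kernel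

theorem C5_pow : ∀ c : C 5, c ^ 5 = 1 := by decide +kernel

theorem val_cop : ∀ c : C 5, c ≠ 1 → Nat.Coprime (6 * c.toAdd.val + 10) 15 := by decide +kernel

theorem val_cop' : ∀ c : C 3, c ≠ 1 → Nat.Coprime (10 * c.toAdd.val + 6) 15 ∧
    Nat.Coprime (10 * c.toAdd.val + 12) 15 := by decide +kernel

theorem v5 : (Multiplicative.toAdd (1 : C 5)).val = 0 := by decide +kernel
theorem v0 : (Multiplicative.toAdd (1 : C 3)).val = 0 := by decide +kernel
theorem v1 : (Multiplicative.toAdd g1).val = 1 := by decide +kernel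
theorem v2 : (Multiplicative.toAdd (g1 * g1)).val = 2 := by decide +kernel
theorem v3 : (Multiplicative.toAdd (g1⁻¹)).val = 2 := by decide +kernel

theorem f1_one : f1 ⟨1, g1⟩ = x := by
  show f1 ⟨((1 : C 5), (1 : C 5)), g1⟩ = x
  rw [f1_apply, v5, v1, pow_zero, pow_zero, one_mul, one_mul, pow_one]

theorem f1_inv : f1 ⟨1, g1⁻¹⟩ = x ^ 2 := by
  show f1 ⟨((1 : C 5), (1 : C 5)), g1⁻¹⟩ = x ^ 2
  rw [f1_apply, v5, v3, pow_zero, pow_zero, one_mul, one_mul]

theorem f2_w : f2 ⟨1, g1⟩ = w := by
  show f2 ⟨((1 : C 3), (1 : C 3)), g1⟩ = w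
  rw [f2_apply, v0, v1, pow_zero, pow_zero, one_mul, one_mul, pow_one]

theorem f2_xw : f2 ⟨(g1, 1), g1⟩ = x * w := by
  rw [f2_apply, v0, v1, pow_zero, mul_one, pow_one, pow_one]

theorem f2_xww : f2 ⟨(g1, 1), g1 * g1⟩ = x * w ^ 2 := by
  rw [f2_apply, v0, v1, v2, pow_zero, mul_one, pow_one]

theorem f2_x : f2 ⟨(g1, 1), 1⟩ = x := by
  rw [f2_apply, v0, v1, pow_zero, mul_one, pow_one, pow_zero, mul_one]

theorem f2_xx : f2 ⟨(g1 * g1, 1), 1⟩ = x ^ 2 := by
  rw [f2_apply, v0, v2, pow_zero, mul_one, pow_zero, mul_one]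

theorem f2_z : f2 ⟨(1, g1), 1⟩ = z := by
  rw [f2_apply, v0, v1, pow_zero, one_mul, pow_one, pow_zero, mul_one]

theorem f2_zz : f2 ⟨(1, g1 * g1), 1⟩ = z ^ 2 := by
  rw [f2_apply, v0, v2, pow_zero, one_mul, pow_zero, mul_one]

theorem f2_one : f2 ⟨(1, 1), 1⟩ = 1 := by
  rw [f2_apply, v0, pow_zero, pow_zero, pow_zero, one_mul, one_mul]

set_option maxHeartbeats 4000000 in
theorem no_vals {M : Ideal AlgInt} {V : ValuationSubring ℂ} (hM : IsPModular 2 M) (hV : Above M V)
    (σ : Representation (ResidueField V) J (Fin 56 → ResidueField V)) (H : Vals σ) : False := by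
  classical
  have hconj : ∀ g h : J, bc 2 σ (h * g * h⁻¹) = bc 2 σ g := fun g h => bc_conj 2 σ g h
  have ox : orderOf x = 3 := orderOf_eq_prime x_cube x_ne
  have oz : orderOf z = 3 := orderOf_eq_prime z_cube z_ne
  have oy : orderOf y = 5 := by
    have : Fact (Nat.Prime 5) := ⟨by norm_num⟩
    exact orderOf_eq_prime y_five y_ne
  obtain ⟨B, hB⟩ : ∃ B, bc 2 σ x = B := ⟨_, rfl⟩
  obtain ⟨A, hA⟩ : ∃ A, bc 2 σ z = A := ⟨_, rfl⟩
  have hxi : bc 2 σ x⁻¹ = B := by rw [H.three_inv x ox, hB]
  have hzi : bc 2 σ z⁻¹ = A := by rw [H.three_inv z oz, hA]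
  have x2 : x ^ 2 = x⁻¹ := by rw [eq_inv_iff_mul_eq_one, ← pow_succ, x_cube]
  have z2 : z ^ 2 = z⁻¹ := by rw [eq_inv_iff_mul_eq_one, ← pow_succ, z_cube]
  have hBv := H.three x ox
  have hAv := H.three z oz
  rw [hB] at hBv
  rw [hA] at hAv
  have h5 : ∀ g : J, g ^ 5 = 1 → g ≠ 1 → bc 2 σ g = 6 := by
    intro g hg hg1
    have : Fact (Nat.Prime 5) := ⟨by norm_num⟩
    exact H.five g (orderOf_eq_prime hg hg1)
  -- the group `5 ^ 2 : 3`
  obtain ⟨⟨d1, hd1⟩, ⟨d2, hd2⟩⟩ := semi_pos hM hV σ (N := C 5 × C 5) (A := 200) (B := B) (by decide +kernel) _ f1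
    (by
      rw [sum_one (A := 56) (B := 6)]
      · have h : Fintype.card (C 5 × C 5) = 25 := by decide +kernel
        rw [h]
        norm_num
      · show bc 2 σ (f1 (1 : T1)) = 56
        rw [map_one, H.one]
      · rintro ⟨i, j⟩ hij
        apply h5
        · rw [← map_pow]
          have h : ((⟨(i, j), 1⟩ : T1)) ^ 5 = 1 := by
            have h1 : (SemidirectProduct.inl (i, j) : T1) ^ 5 = 1 := by
              rw [← map_pow, pow_five, map_one]
            exact h1
          rw [h, map_one]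
        · rw [f1_apply, toAdd_one, ZMod.val_zero, pow_zero, mul_one, a, b, ← el_rep, ← el_rep, el_mul]
          exact el_ne (chk_ab i j hij))
    (by
      rintro ⟨v1, v2⟩ k hk
      have e1 : f1 ⟨1, g1⟩ = x := f1_one
      have e2 : f1 ⟨1, g1⁻¹⟩ = x⁻¹ := f1_inv.trans x2
      obtain ⟨u1, u2, h | h⟩ := conj1 v1 v2 k hk
      · rw [← h, inn1, map_mul, map_mul, map_inv, hconj, e1, hB]
      · rw [← h, inn1, map_mul, map_mul, map_inv, hconj, e2, hxi])
  have hc25 : Fintype.card (C 5 × C 5) = 25 := by decide +kernel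
  rw [hc25] at hd1 hd2
  have hB2 : B = 2 := by
    rcases hBv with h | h | h | h
    · exact h
    · exfalso
      rw [h] at hd2
      have h1 : (d2 : ℤ) * 75 = -300 := by
        have h2 : (d2 : ℂ) * 75 = -300 := by
          push_cast at hd2
          linear_combination -hd2
        exact_mod_cast h2
      omega
    · exfalso
      rw [h] at hd1
      have h1 : (d1 : ℤ) * 75 = -150 := by
        have h2 : (d1 : ℂ) * 75 = -150 := by
          push_cast at hd1
          linear_combination -hd1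
        exact_mod_cast h2
      omega
    · exfalso
      rw [h] at hd1
      have h1 : (d1 : ℤ) * 75 = -1050 := by
        have h2 : (d1 : ℂ) * 75 = -1050 := by
          push_cast at hd1
          linear_combination -hd1
        exact_mod_cast h2
      omega
  -- the group `3 ^ (1 + 2)`
  have hcx : ∀ c g : J, c * x * c⁻¹ = g → bc 2 σ g = B ∧ bc 2 σ g⁻¹ = B := by
    rintro c g rfl
    refine ⟨by rw [hconj, hB], ?_⟩
    rw [show (c * x * c⁻¹)⁻¹ = c * x⁻¹ * c⁻¹ by group, hconj, hxi]
  have hn1 : ∀ i j : C 3, i ≠ 1 → bc 2 σ (f2 ⟨(i, j), 1⟩) = B := by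
    intro i j hi
    obtain ⟨k, hk⟩ := conj3 i j hi
    rw [← hk, map_mul, map_mul, map_inv, hconj]
    rcases C3_cases i with rfl | rfl | rfl
    · exact absurd rfl hi
    · rw [f2_x, hB]
    · rw [f2_xx, x2, hxi]
  obtain ⟨⟨d3, hd3⟩, -⟩ := semi_pos hM hV σ (N := C 3 × C 3) (A := 56 + 2 * A + 6 * B) (B := B)
    (by decide +kernel) _ f2
    (by
      have hg1 : g1 ≠ 1 := by decide +kernel
      have hg2 : g1 * g1 ≠ 1 := by decide +kernel
      have e0 : bc 2 σ (f2 ⟨(1, 1), 1⟩) = 56 := by
        rw [f2_one, H.one]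
      have e1 : bc 2 σ (f2 ⟨(1, g1), 1⟩) = A := by
        rw [f2_z, hA]
      have e2 : bc 2 σ (f2 ⟨(1, g1 * g1), 1⟩) = A := by
        rw [f2_zz, z2, hzi]
      rw [Fintype.sum_prod_type, sum_C3, sum_C3, sum_C3, sum_C3, e0, e1, e2, hn1 _ _ hg1, hn1 _ _ hg1, hn1 _ _ hg1,
        hn1 _ _ hg2, hn1 _ _ hg2, hn1 _ _ hg2]
      ring)
    (by
      rintro ⟨v1, v2⟩ k hk
      have e1 := f2_w
      have e2 := f2_xw
      have e3 := f2_xww
      have hw := hcx _ _ c1_eq
      have hw2 := hcx _ _ c2_eq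
      have hw3 := hcx _ _ c3_eq
      obtain ⟨u1, u2, h | h | h | h | h | h⟩ := conj2 v1 v2 k hk
      · rw [← h, inn2, map_mul, map_mul, map_inv, hconj, e1, hw.1]
      · rw [← h, inn2, map_mul, map_mul, map_inv, map_inv, hconj, e1, hw.2]
      · rw [← h, inn2, map_mul, map_mul, map_inv, hconj, e2, hw2.1]
      · rw [← h, inn2, map_mul, map_mul, map_inv, map_inv, hconj, e2, hw2.2]
      · rw [← h, inn2, map_mul, map_mul, map_inv, hconj, e3, hw3.1]
      · rw [← h, inn2, map_mul, map_mul, map_inv, map_inv, hconj, e3, hw3.2])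
  have hc9 : Fintype.card (C 3 × C 3) = 9 := by decide +kernel
  rw [hc9, hB2] at hd3
  have hA2 : A = 2 ∨ A = -25 := by
    rcases hAv with h | h | h | h
    · exact Or.inl h
    · exfalso
      rw [h] at hd3
      have h1 : (d3 : ℤ) * 27 = 144 := by
        have h2 : (d3 : ℂ) * 27 = 144 := by
          push_cast at hd3
          linear_combination -hd3
        exact_mod_cast h2
      omega
    · exfalso
      rw [h] at hd3
      have h1 : (d3 : ℤ) * 27 = 90 := by
        have h2 : (d3 : ℂ) * 27 = 90 := by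
          push_cast at hd3
          linear_combination -hd3
        exact_mod_cast h2
      omega
    · exact Or.inr h
  -- elements of order 15
  have hyz : Commute y z := (show y * z = z * y from zy_comm.symm)
  have o15 : orderOf (y * z) = 15 := by
    rw [hyz.orderOf_mul_eq_mul_orderOf_of_coprime (by rw [oy, oz]; norm_num), oy, oz]
  obtain ⟨m, hm⟩ := H.fifteen (y * z) o15
  have hm' : ∀ i j : ℕ, Nat.Coprime (6 * i + 10 * j) 15 → bc 2 σ (y ^ i * z ^ j) = m := by
    intro i j hij
    rw [← hm _ hij]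
    congr 1
    rw [hyz.mul_pow]
    congr 1
    · rw [show 6 * i + 10 * j = i + 5 * (i + 2 * j) by ring, pow_add, pow_mul, y_five, one_pow, mul_one]
    · rw [show 6 * i + 10 * j = j + 3 * (2 * i + 3 * j) by ring, pow_add, pow_mul, z_cube, one_pow, mul_one]
  -- the group `5 × A₅`
  obtain ⟨f, fk1, fk3, fk5, fk25⟩ := exists_prod (n := 5) y y_five z (el wY1) (el wY2) z_cube
    (by rw [pow_succ, pow_two, el_mul, el_mul]; exact el_eq Data.Y13)
    (by rw [pow_succ, pow_two, el_mul, el_mul]; exact el_eq Data.Y23)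
    (by rw [pow_two, z, el_mul, el_mul]; exact el_eq Data.Y01)
    (by rw [pow_two, z, el_mul, el_mul]; exact el_eq Data.Y02)
    (by rw [pow_two, el_mul, el_mul]; exact el_eq Data.Y12) zy_comm.symm
    (by rw [y, el_mul, el_mul]; exact el_eq Data.yY1)
    (by rw [y, el_mul, el_mul]; exact el_eq Data.yY2)
  have hr : z * el wY1 * el wY2 = el wr := by
    rw [z, el_mul, el_mul]
    rfl
  have fconj : ∀ (c : C 5) (u g : A5), bc 2 σ (f (c, u * g * u⁻¹)) = bc 2 σ (f (c, g)) := by
    intro c u g
    have h : (c, u * g * u⁻¹) = (1, u) * (c, g) * (1, u)⁻¹ := by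
      ext1
      · simp
      · rfl
    rw [h, map_mul, map_mul, map_inv, hconj]
  obtain ⟨e, he⟩ := prod_pos hM hV (by norm_num) σ f (P := fun c => if c = 1 then 56 else 6)
    (Q := fun c => if c = 1 then A else m) (R := fun _ => 6)
    (by
      intro c
      split_ifs with hc
      · rw [hc, show ((1 : C 5), (1 : A5)) = 1 from rfl, map_one, H.one]
      · apply h5
        · rw [← map_pow, Prod.pow_mk, C5_pow, one_pow]
          exact map_one f
        · rw [fk1]
          intro h
          have h1 := orderOf_dvd_of_pow_eq_one h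
          rw [oy] at h1
          have h2 : c.toAdd.val < 5 := ZMod.val_lt _
          have h3 : c.toAdd.val = 0 := Nat.eq_zero_of_dvd_of_lt h1 h2
          apply hc
          exact (ZMod.val_eq_zero _).1 h3)
    (by
      intro c g hg
      obtain ⟨u, rfl⟩ := conj_two g hg
      rw [fconj, fk3]
      split_ifs with hc
      · rw [hc, toAdd_one, ZMod.val_zero, pow_zero, one_mul, hA]
      · have h1 := hm' c.toAdd.val 1 (by
          have := val_cop c hc
          rwa [mul_one])
        rwa [pow_one] at h1)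
    (by
      intro c g hg
      obtain ⟨u, h | h⟩ := conj_zero g hg
      · apply h5
        · rw [← map_pow, Prod.pow_mk, C5_pow, five_pow g hg]
          exact map_one f
        · rw [← h]
          intro h0
          have h1 : f (c, s3 * s31 * s32) = 1 := by
            have h2 : (c, u * (s3 * s31 * s32) * u⁻¹) = (1, u) * (c, s3 * s31 * s32) * (1, u)⁻¹ := by
              ext1
              · simp
              · rfl
            rw [h2, map_mul, map_mul, map_inv, mul_inv_eq_one, mul_eq_left] at h0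
            exact h0
          rw [fk5, hr, y, ← el_rep, el_mul] at h1
          exact el_ne (chk_yr c).1 h1
      · apply h5
        · rw [← map_pow, Prod.pow_mk, C5_pow, five_pow g hg]
          exact map_one f
        · rw [← h]
          intro h0
          have h1 : f (c, (s3 * s31 * s32) ^ 2) = 1 := by
            have h2 : (c, u * (s3 * s31 * s32) ^ 2 * u⁻¹) = (1, u) * (c, (s3 * s31 * s32) ^ 2) * (1, u)⁻¹ := by
              ext1
              · simp
              · rfl
            rw [h2, map_mul, map_mul, map_inv, mul_inv_eq_one, mul_eq_left] at h0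
            exact h0
          rw [fk25, hr, pow_two, el_mul, y, ← el_rep, el_mul] at h1
          exact el_ne (chk_yr c).2 h1)
  -- the group `3 × A₅`
  obtain ⟨f', gk1, gk3, gk5, gk25⟩ := exists_prod (n := 3) z z_cube x (el wX1) (el wX2) x_cube
    (by rw [pow_succ, pow_two, el_mul, el_mul]; exact el_eq Data.X13)
    (by rw [pow_succ, pow_two, el_mul, el_mul]; exact el_eq Data.X23)
    (by rw [pow_two, x, el_mul, el_mul]; exact el_eq Data.X01)
    (by rw [pow_two, x, el_mul, el_mul]; exact el_eq Data.X02)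
    (by rw [pow_two, el_mul, el_mul]; exact el_eq Data.X12) zx_comm
    (by rw [z, el_mul, el_mul]; exact el_eq Data.zX1)
    (by rw [z, el_mul, el_mul]; exact el_eq Data.zX2)
  have hr' : x * el wX1 * el wX2 = y := by
    rw [x, el_mul, el_mul, y]
    exact el_eq Data.X012
  have gconj : ∀ (c : C 3) (u g : A5), bc 2 σ (f' (c, u * g * u⁻¹)) = bc 2 σ (f' (c, g)) := by
    intro c u g
    have h : (c, u * g * u⁻¹) = (1, u) * (c, g) * (1, u)⁻¹ := by
      ext1
      · simp
      · rfl
    rw [h, map_mul, map_mul, map_inv, hconj]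
  have hy2 : bc 2 σ (y ^ 2) = 6 := by
    apply h5
    · rw [← pow_mul, mul_comm, pow_mul, y_five, one_pow]
    · intro h
      have := orderOf_dvd_of_pow_eq_one h
      rw [oy] at this
      norm_num at this
  obtain ⟨e', he'⟩ := prod_pos hM hV (by norm_num) σ f' (P := fun c => if c = 1 then 56 else A)
    (Q := fun _ => B) (R := fun c => if c = 1 then 6 else m)
    (by
      intro c
      rw [gk1]
      rcases C3_cases c with rfl | rfl | rfl
      · rw [if_pos rfl, toAdd_one, ZMod.val_zero, pow_zero, H.one]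
      · rw [if_neg (by decide +kernel), v1, pow_one, hA]
      · rw [if_neg (by decide +kernel), v2, z2, hzi])
    (by
      intro c g hg
      obtain ⟨u, rfl⟩ := conj_two g hg
      rw [gconj, gk3]
      have hw1 : w * x * w⁻¹ = z * x := by rw [wx_eq, zx_comm]
      rcases C3_cases c with rfl | rfl | rfl
      · rw [toAdd_one, ZMod.val_zero, pow_zero, one_mul, hB]
      · rw [v1, pow_one, ← hw1, hconj, hB]
      · rw [v2]
        have h1 : z ^ 2 * x = w * (z * x) * w⁻¹ := by
          have h2 : w * (z * x) * w⁻¹ = (w * z * w⁻¹) * (w * x * w⁻¹) := by group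
          rw [h2, hw1, ← zw_comm, mul_inv_cancel_right, pow_two, mul_assoc]
        rw [h1, hconj, ← hw1, hconj, hB])
    (by
      intro c g hg
      obtain ⟨u, h | h⟩ := conj_zero g hg
      · rw [← h, gconj, gk5, hr']
        split_ifs with hc
        · rw [hc, toAdd_one, ZMod.val_zero, pow_zero, one_mul]
          exact H.five y oy
        · have h1 := hm' 1 c.toAdd.val (by
            have := (val_cop' c hc).1
            rwa [mul_one, add_comm])
          rw [pow_one, (hyz.pow_right _).eq] at h1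
          exact h1
      · rw [← h, gconj, gk25, hr']
        split_ifs with hc
        · rw [hc, toAdd_one, ZMod.val_zero, pow_zero, one_mul, hy2]
        · have h1 := hm' 2 c.toAdd.val (by
            have := (val_cop' c hc).2
            rwa [show 6 * 2 = 12 by norm_num, add_comm])
          rw [(hyz.pow_pow _ _).eq] at h1
          exact h1)
  -- arithmetic
  have hc3 : ((3 : ℕ) : ℂ) = 3 := by norm_num
  have hc5 : ((5 : ℕ) : ℂ) = 5 := by norm_num
  rw [sum_one (A := 4 * 56 + 20 * A - 24 * 6) (B := 4 * 6 + 20 * m - 24 * 6) _ (by simp)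
    (by intro c hc; simp [hc]), card_C, hc5] at he
  rw [sum_one (A := 4 * 56 + 20 * B - 24 * 6) (B := 4 * A + 20 * B - 24 * m) _ (by simp)
    (by intro c hc; simp [hc]), card_C, hc3, hB2] at he'
  rcases hA2 with h | h
  · rw [h] at he he'
    have h1 : (80 * m - 360 : ℤ) = e * 300 := by
      have h2 : (80 * m - 360 : ℂ) = e * 300 := by linear_combination he
      exact_mod_cast h2
    have h3 : (216 - 48 * m : ℤ) = e' * 180 := by
      have h2 : (216 - 48 * m : ℂ) = e' * 180 := by linear_combination he'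
      exact_mod_cast h2
    omega
  · rw [h] at he he'
    have h1 : (80 * m - 900 : ℤ) = e * 300 := by
      have h2 : (80 * m - 900 : ℂ) = e * 300 := by linear_combination he
      exact_mod_cast h2
    have h3 : (0 - 48 * m : ℤ) = e' * 180 := by
      have h2 : (0 - 48 * m : ℂ) = e' * 180 := by linear_combination he'
      exact_mod_cast h2
    omega

/-- **The row `J₂`.** -/
theorem not_j2 {G : Type*} [Group G] (h : Cfsg.Spor.IsoJ2 G) : ¬ Adm G := by
  intro hG
  obtain ⟨e⟩ := h
  obtain ⟨f⟩ := J2_iso Cfsg.Agent.S1619.result.2.2.2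
  have hJ : Adm J := hG.comap (e.trans f).symm.toMonoidHom (e.trans f).symm.injective
  obtain ⟨M, V, hM, hV, σ, H⟩ := hJ
  exact no_vals hM hV σ H

end Cfsg.Agent.H846.E72
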