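import Cfsg.Agent.Lib.AltCarmichael
import Cfsg.Agent.S0157
import Cfsg.Agent.Blocks.CliffordCentral

/-!
# The alternating group of degree five: sums with the character of degree 4 (TEAM E72, row `J₂` of S5935)
-/

set_option autoImplicit false

namespace Cfsg.Agent.H846.E72.AFive

open Cfsg Cfsg.Agent.Lib.AltCarmichael

/-- the alternating group of degree five -/
abbrev A5 : Type := alternatingGroup (Fin 5)

/-- the number of fixed points -/
def fx (g : A5) : ℕ := (Finset.univ.filter fun i : Fin 5 => (g : Equiv.Perm (Fin 5)) i = i).card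

/-- the permutation character minus one -/
noncomputable def chi (g : A5) : ℂ := (Nat.card (MulAction.fixedBy (Fin 5) g) : ℂ) - 1

theorem chi_eq (g : A5) : chi g = (fx g : ℂ) - 1 := by
  unfold chi fx
  rw [Nat.card_eq_fintype_card, ← Fintype.card_subtype]
  congr 2

theorem irr : IsIrrCharacter A5 chi := by
  have h3 : MulAction.IsMultiplyPretransitive (alternatingGroup (Fin 5)) (Fin 5) 3 := by
    have := alternatingGroup.isMultiplyPretransitive (Fin 5)
    simpa using this
  have h2 : MulAction.IsMultiplyPretransitive (alternatingGroup (Fin 5)) (Fin 5) 2 :=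
    MulAction.isMultiplyPretransitive_of_le (n := 3) (by norm_num) (by simp)
  have h1 : MulAction.IsMultiplyPretransitive (alternatingGroup (Fin 5)) (Fin 5) 1 :=
    MulAction.isMultiplyPretransitive_of_le (n := 2) (by norm_num) (by simp)
  have ht : MulAction.IsPretransitive (alternatingGroup (Fin 5)) (Fin 5) :=
    MulAction.is_one_pretransitive_iff.1 h1
  exact (Cfsg.Agent.S0157.result (G := alternatingGroup (Fin 5)) (Fin 5) (by simp)).2 h2

theorem fx_cases : ∀ g : A5, (g = 1 ∧ fx g = 5) ∨ fx g = 2 ∨ fx g = 1 ∨ fx g = 0 := by decide +kernel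

theorem fx_pow : ∀ g : A5, fx g = 1 ∨ g ^ 15 = 1 := by decide +kernel

theorem fx_inv : ∀ g : A5, fx g⁻¹ = fx g := by decide +kernel

theorem card_two : (Finset.univ.filter fun g : A5 => fx g = 2).card = 20 := by decide +kernel

theorem card_zero : (Finset.univ.filter fun g : A5 => fx g = 0).card = 24 := by decide +kernel

/-- the 3-cycle -/
def s3 : A5 := ⟨cyc 3 0, cyc_mem 3 0 (by norm_num)⟩
/-- the other Carmichael generators -/
def s31 : A5 := ⟨cyc 3 1, cyc_mem 3 1 (by norm_num)⟩
/-- the other Carmichael generators -/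
def s32 : A5 := ⟨cyc 3 2, cyc_mem 3 2 (by norm_num)⟩

theorem conj_two : ∀ g : A5, fx g = 2 → ∃ u : A5, u * s3 * u⁻¹ = g := by decide +kernel

theorem conj_zero : ∀ g : A5, fx g = 0 → ∃ u : A5, u * (s3 * s31 * s32) * u⁻¹ = g ∨
    u * (s3 * s31 * s32) ^ 2 * u⁻¹ = g := by decide +kernel

/-- a class function on `A₅`, summed with the character of degree 4 -/
theorem sum_chi {Φ : A5 → ℂ} {P Q R : ℂ} (h1 : Φ 1 = P) (h2 : ∀ g, fx g = 2 → Φ g = Q)
    (h0 : ∀ g, fx g = 0 → Φ g = R) : ∑ g : A5, Φ g * chi g = 4 * P + 20 * Q - 24 * R := by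
  have key : ∀ g : A5, Φ g * chi g = (if g = 1 then 4 * P else 0) + Q * (if fx g = 2 then 1 else 0) +
      (-R) * (if fx g = 0 then 1 else 0) := by
    intro g
    rw [chi_eq]
    rcases fx_cases g with ⟨rfl, h⟩ | h | h | h
    · rw [h, h1]
      norm_num
      ring
    · have hg : g ≠ 1 := by
        rintro rfl
        revert h
        decide +kernel
      rw [h2 g h, h]
      simp only [hg, if_false, if_true, Nat.cast_ofNat]
      rw [if_neg (by norm_num : ¬ ((2 : ℕ) = 0))]
      ring
    · have hg : g ≠ 1 := by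
        rintro rfl
        revert h
        decide +kernel
      rw [h]
      simp [hg]
    · have hg : g ≠ 1 := by
        rintro rfl
        revert h
        decide +kernel
      rw [h0 g h, h]
      simp [hg]
  have e2 : (∑ g : A5, if fx g = 2 then (1 : ℂ) else 0) = 20 := by
    rw [← Finset.sum_filter, Finset.sum_const, nsmul_eq_mul, mul_one, card_two]
    norm_num
  have e0 : (∑ g : A5, if fx g = 0 then (1 : ℂ) else 0) = 24 := by
    rw [← Finset.sum_filter, Finset.sum_const, nsmul_eq_mul, mul_one, card_zero]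
    norm_num
  simp only [key, Finset.sum_add_distrib, ← Finset.mul_sum, e2, e0, Finset.sum_ite_eq', Finset.mem_univ, if_true]
  ring

end Cfsg.Agent.H846.E72.AFive
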