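import Cfsg.Agent.J2.HundredGens

/-!
# Words in the Hall–Janko group on 100 points, for the row `J₂` of S5935 (TEAM E72)
-/

set_option autoImplicit false

namespace Cfsg.Agent.H846.E72.Data

open Cfsg.Agent.J2.HundredGens Cfsg.Agent.SporadicA.J2Hundred Equiv

/-- element of class 3A -/
def wz : List ℕ := [3, 4]
/-- element of order five, commuting with `wz` -/
def wy : List ℕ := [0, 1]
/-- Carmichael generators of the `A₅` centralizing `wy` (with `wz`) -/
def wY1 : List ℕ := [0, 1, 0, 1, 2, 1, 0, 3, 2, 1, 0, 1, 2, 3, 2, 1, 3, 2, 4, 3]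
def wY2 : List ℕ := [0, 1, 2, 1, 0, 1, 0, 3, 2, 1, 3, 2, 3, 2, 1, 0, 1, 2, 4, 3]
/-- Carmichael generators of the `A₅` centralizing `wz` -/
def wX0 : List ℕ := [1, 2, 3, 2, 4, 3, 2, 1, 0, 1, 2, 3, 2, 4, 3, 2, 1, 3, 2, 3, 2, 4, 3, 2]
def wX1 : List ℕ := [2, 3, 4, 3, 2, 1, 3, 2, 1, 3, 2, 4, 3, 2, 1, 0, 1, 2, 3, 2, 4, 3, 2, 1]
def wX2 : List ℕ := [1, 0, 1, 0, 2, 3, 2, 4, 3, 2, 1, 0, 1, 2, 3, 2, 1, 4, 3, 2, 1, 3, 2, 3, 4, 3, 2]
/-- an element of order 5, which generates with its conjugates by `wX0` a group `5 ^ 2` -/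
def wa : List ℕ := [1, 0, 2, 1, 3, 2, 1, 3, 2, 1]
/-- the conjugate by `wX0` -/
def wb : List ℕ := wX0 ++ wa ++ wX0.reverse
/-- the third generator of `3 ^ (1 + 2)` -/
def ww : List ℕ := [0, 2, 3, 2, 1, 4, 3, 2, 1, 0, 3, 2, 4, 3, 2, 1, 0, 1]
/-- conjugating elements -/
def c1 : List ℕ := [1, 2, 3, 4, 3, 2, 3, 2, 1]
def c2 : List ℕ := [1, 0, 1, 2, 3, 2, 4, 3, 2, 1, 0]
def c3 : List ℕ := [0, 1, 2, 3, 2, 4, 3, 2]

theorem z3 : chk (wz ++ wz ++ wz) [] = true := by decide +kernel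
theorem y5 : chk (wy ++ wy ++ wy ++ wy ++ wy) [] = true := by decide +kernel
theorem zy : chk (wz ++ wy) (wy ++ wz) = true := by decide +kernel
theorem Y13 : chk (wY1 ++ wY1 ++ wY1) [] = true := by decide +kernel
theorem Y23 : chk (wY2 ++ wY2 ++ wY2) [] = true := by decide +kernel
theorem Y01 : chk ((wz ++ wY1) ++ (wz ++ wY1)) [] = true := by decide +kernel
theorem Y02 : chk ((wz ++ wY2) ++ (wz ++ wY2)) [] = true := by decide +kernel
theorem Y12 : chk ((wY1 ++ wY2) ++ (wY1 ++ wY2)) [] = true := by decide +kernel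
theorem yY1 : chk (wy ++ wY1) (wY1 ++ wy) = true := by decide +kernel
theorem yY2 : chk (wy ++ wY2) (wY2 ++ wy) = true := by decide +kernel
theorem X03 : chk (wX0 ++ wX0 ++ wX0) [] = true := by decide +kernel
theorem X13 : chk (wX1 ++ wX1 ++ wX1) [] = true := by decide +kernel
theorem X23 : chk (wX2 ++ wX2 ++ wX2) [] = true := by decide +kernel
theorem X01 : chk ((wX0 ++ wX1) ++ (wX0 ++ wX1)) [] = true := by decide +kernel
theorem X02 : chk ((wX0 ++ wX2) ++ (wX0 ++ wX2)) [] = true := by decide +kernel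
theorem X12 : chk ((wX1 ++ wX2) ++ (wX1 ++ wX2)) [] = true := by decide +kernel
theorem zX0 : chk (wz ++ wX0) (wX0 ++ wz) = true := by decide +kernel
theorem zX1 : chk (wz ++ wX1) (wX1 ++ wz) = true := by decide +kernel
theorem zX2 : chk (wz ++ wX2) (wX2 ++ wz) = true := by decide +kernel
theorem X012 : chk (wX0 ++ wX1 ++ wX2) wy = true := by decide +kernel
theorem a5 : chk (wa ++ wa ++ wa ++ wa ++ wa) [] = true := by decide +kernel
theorem ab : chk (wa ++ wb) (wb ++ wa) = true := by decide +kernel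
theorem xb : chk ((wX0 ++ wb ++ wX0.reverse) ++ (wa ++ wb)) [] = true := by decide +kernel
theorem w3 : chk (ww ++ ww ++ ww) [] = true := by decide +kernel
theorem zw : chk (wz ++ ww) (ww ++ wz) = true := by decide +kernel
theorem wx : chk (ww ++ wX0 ++ ww.reverse) (wX0 ++ wz) = true := by decide +kernel
theorem cc1 : chk (c1 ++ wX0 ++ c1.reverse) ww = true := by decide +kernel
theorem cc2 : chk (c2 ++ wX0 ++ c2.reverse) (wX0 ++ ww) = true := by decide +kernel
theorem cc3 : chk (c3 ++ wX0 ++ c3.reverse) (wX0 ++ ww ++ ww) = true := by decide +kernel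

end Cfsg.Agent.H846.E72.Data
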