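import Cfsg.Agent.H846.E72.Pos
import Cfsg.Agent.H846.E72.Data
import Cfsg.Agent.S1619

/-!
# The row `J₂` of S5935 (TEAM E72): `J₂` does not act on the 56-dimensional module of `E₇(2)`

With the classes 3A (of `z`), 3B (of `x`) and the values `A`, `B` on them, `m` on the elements of order 15:
* `5 ^ 2 : 3` : `200 + 50 B = 75 d`, `200 - 25 B = 75 e`, so `B = 2`;
* `3 ^ (1 + 2)` : `56 + 2 A + 24 B = 27 d`, so `A ∈ {2, -25}`;
* `5 × A₅`, `3 × A₅` with the character of degree four: bounds for `m`, contradiction.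
-/

set_option autoImplicit false

namespace Cfsg.Agent.H846.E72

open Cfsg IsLocalRing Module Cfsg.Agent.H657 Cfsg.Agent.H943.E7V Semi AFive Data
open Cfsg.Agent.J2.HundredGens Cfsg.Agent.SporadicA.J2Hundred Cfsg.Agent.SporadicA.PermTab
open Cfsg.Agent.Lib.AltCarmichael (Rel cyc cyc_mem exists_hom swap_rel)

/-- the model -/
abbrev J : Type := ↥Cfsg.Agent.SporadicA.J2Hundred.G

/-- the element of a word -/
noncomputable def el (L : List ℕ) : J := ⟨pw L, pw_mem L⟩

theorem el_mul (L M : List ℕ) : el L * el M = el (L ++ M) := Subtype.ext (pw_mul L M)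

theorem el_nil : el [] = 1 := rfl

theorem el_inv (L : List ℕ) : (el L)⁻¹ = el L.reverse := Subtype.ext (pw_inv L)

theorem el_eq {L M : List ℕ} (h : chk L M = true) : el L = el M := Subtype.ext (pw_eq h)

theorem el_ne {L : List ℕ} (h : chk L [] = false) : el L ≠ 1 := by
  intro h1
  have h2 : pw L = 1 := congrArg Subtype.val h1
  have h3 : chk L [] = true := by
    unfold chk
    rw [allB_iff]
    intro i hi
    have h4 := pw_val L ⟨i, hi⟩
    rw [h2] at h4
    rw [← h4]
    exact Nat.beq_refl i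
  rw [h3] at h
  exact Bool.noConfusion h

/-- powers of a word -/
def rep (L : List ℕ) : ℕ → List ℕ
  | 0 => []
  | n + 1 => rep L n ++ L

theorem el_rep (L : List ℕ) (n : ℕ) : el (rep L n) = el L ^ n := by
  induction n with
  | zero => rfl
  | succ n ih => rw [rep, ← el_mul, ih, pow_succ]

/-- the elements -/
noncomputable def z : J := el wz
/-- of order five -/
noncomputable def y : J := el wy
/-- of class 3B -/
noncomputable def x : J := el wX0
/-- of order five -/
noncomputable def a : J := el wa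
/-- of order five -/
noncomputable def b : J := el wb
/-- of order three -/
noncomputable def w : J := el ww

theorem z_cube : z ^ 3 = 1 := by
  rw [pow_succ, pow_two, z, el_mul, el_mul]
  exact el_eq z3
theorem x_cube : x ^ 3 = 1 := by
  rw [pow_succ, pow_two, x, el_mul, el_mul]
  exact el_eq X03
theorem w_cube : w ^ 3 = 1 := by
  rw [pow_succ, pow_two, w, el_mul, el_mul]
  exact el_eq w3
theorem y_five : y ^ 5 = 1 := by
  rw [pow_succ, pow_succ, pow_succ, pow_two, y, el_mul, el_mul, el_mul, el_mul]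
  exact el_eq y5
theorem a_five : a ^ 5 = 1 := by
  rw [pow_succ, pow_succ, pow_succ, pow_two, a, el_mul, el_mul, el_mul, el_mul]
  exact el_eq Data.a5
theorem b_eq : b = x * a * x⁻¹ := by
  rw [b, x, a, el_inv, el_mul, el_mul]
  rfl
theorem b_five : b ^ 5 = 1 := by
  rw [b_eq, conj_pow, a_five]
  group
theorem xb_eq : x * b * x⁻¹ = (a * b)⁻¹ := by
  rw [← mul_eq_one_iff_eq_inv, x, b, a, el_inv, el_mul, el_mul, el_mul, el_mul]
  exact el_eq Data.xb
theorem ab_comm : a * b = b * a := by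
  rw [a, b, el_mul, el_mul]
  exact el_eq Data.ab
theorem zy_comm : z * y = y * z := by
  rw [z, y, el_mul, el_mul]
  exact el_eq Data.zy
theorem zw_comm : z * w = w * z := by
  rw [z, w, el_mul, el_mul]
  exact el_eq Data.zw
theorem zx_comm : z * x = x * z := by
  rw [z, x, el_mul, el_mul]
  exact el_eq Data.zX0
theorem wx_eq : w * x * w⁻¹ = x * z := by
  rw [w, x, z, el_inv, el_mul, el_mul, el_mul]
  exact el_eq Data.wx
theorem c1_eq : el c1 * x * (el c1)⁻¹ = w := by
  rw [w, x, el_inv, el_mul, el_mul]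
  exact el_eq Data.cc1
theorem c2_eq : el c2 * x * (el c2)⁻¹ = x * w := by
  rw [w, x, el_inv, el_mul, el_mul, el_mul]
  exact el_eq Data.cc2
theorem c3_eq : el c3 * x * (el c3)⁻¹ = x * w ^ 2 := by
  rw [w, x, el_inv, el_mul, el_mul, pow_two, el_mul, el_mul, ]
  exact el_eq (by decide +kernel)

/-! ### the homomorphisms -/

theorem h1_compat (v : C 5 × C 5) : pairHom a_five b_five ab_comm (al1 v) =
    x * pairHom a_five b_five ab_comm v * x⁻¹ := by
  obtain ⟨i, j⟩ := v
  have e1 : pairHom a_five b_five ab_comm (al1 (i, j)) =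
      powHom 5 a a_five j⁻¹ * powHom 5 b b_five (i * j⁻¹) := rfl
  have e2 : pairHom a_five b_five ab_comm (i, j) = powHom 5 a a_five i * powHom 5 b b_five j := rfl
  have e3 : x * powHom 5 a a_five i * x⁻¹ = powHom 5 b b_five i := by
    rw [powHom_apply, powHom_apply, b_eq, conj_pow]
  have e4 : x * powHom 5 b b_five j * x⁻¹ = (powHom 5 a a_five j * powHom 5 b b_five j)⁻¹ := by
    rw [powHom_apply, powHom_apply, ← conj_pow, xb_eq, inv_pow, (show Commute a b from ab_comm).mul_pow]
  have e5 : x * (powHom 5 a a_five i * powHom 5 b b_five j) * x⁻¹ =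
      (x * powHom 5 a a_five i * x⁻¹) * (x * powHom 5 b b_five j * x⁻¹) := by group
  rw [e1, e2, e5, e3, e4, map_mul, map_inv, map_inv, mul_inv_rev]
  have c1 : Commute ((powHom 5 a a_five) j)⁻¹ (powHom 5 b b_five i * (powHom 5 b b_five j)⁻¹) :=
    ((commute_powHom a_five b_five ab_comm j i).mul_right
      (commute_powHom a_five b_five ab_comm j j).inv_right).inv_left
  rw [c1.eq, mul_assoc]

theorem h2_compat (v : C 3 × C 3) : pairHom x_cube z_cube zx_comm.symm (al2 v) =
    w * pairHom x_cube z_cube zx_comm.symm v * w⁻¹ := by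
  obtain ⟨i, j⟩ := v
  have e1 : pairHom x_cube z_cube zx_comm.symm (al2 (i, j)) =
      powHom 3 x x_cube i * powHom 3 z z_cube (j * i) := rfl
  have e2 : pairHom x_cube z_cube zx_comm.symm (i, j) = powHom 3 x x_cube i * powHom 3 z z_cube j := rfl
  have e3 : w * powHom 3 x x_cube i * w⁻¹ = powHom 3 x x_cube i * powHom 3 z z_cube i := by
    rw [powHom_apply, powHom_apply, ← conj_pow, wx_eq, (show Commute x z from zx_comm.symm).mul_pow]
  have e4 : w * powHom 3 z z_cube j * w⁻¹ = powHom 3 z z_cube j := by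
    rw [powHom_apply, ← conj_pow, ← zw_comm, mul_inv_cancel_right]
  have e5 : w * (powHom 3 x x_cube i * powHom 3 z z_cube j) * w⁻¹ =
      (w * powHom 3 x x_cube i * w⁻¹) * (w * powHom 3 z z_cube j * w⁻¹) := by group
  rw [e1, e2, e5, e3, e4, mul_comm j i, map_mul, mul_assoc]

/-- `5 ^ 2 : 3` -/
noncomputable def f1 : T1 →* J :=
  semiHom (pairHom a_five b_five ab_comm) al1 al1_three x x_cube h1_compat

/-- `3 ^ (1 + 2)` -/
noncomputable def f2 : T2 →* J :=
  semiHom (pairHom x_cube z_cube zx_comm.symm) al2 al2_three w w_cube h2_compat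

theorem f1_apply (i j : C 5) (k : C 3) : f1 ⟨(i, j), k⟩ =
    a ^ (i.toAdd.val) * b ^ (j.toAdd.val) * x ^ (k.toAdd.val) := rfl

theorem f2_apply (i j k : C 3) : f2 ⟨(i, j), k⟩ =
    x ^ (i.toAdd.val) * z ^ (j.toAdd.val) * w ^ (k.toAdd.val) := rfl

/-- a homomorphism from `A₅` into the centralizer -/
theorem exists_A5 {H : Type*} [Group H] (c : H) (X : ℕ → H) (hrel : Rel 3 X) (hc : ∀ i, c * X i = X i * c) :
    ∃ ψ : A5 →* H, (∀ g, c * ψ g = ψ g * c) ∧ ∀ (i : ℕ) (hi : i < 3), ψ ⟨cyc 3 i, cyc_mem 3 i hi⟩ = X i := by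
  have hm : ∀ i, X i ∈ Subgroup.centralizer ({c} : Set H) := fun i =>
    Subgroup.mem_centralizer_singleton_iff.2 (hc i).symm
  obtain ⟨φ, hφ⟩ := exists_hom (m := 3) (by norm_num) (x := fun i => (⟨X i, hm i⟩ :
    Subgroup.centralizer ({c} : Set H))) ⟨fun i hi => Subtype.ext (hrel.cube i hi),
      fun i hi j hj hij => Subtype.ext (hrel.sq i hi j hj hij)⟩
  refine ⟨(Subgroup.subtype _).comp φ, fun g => ?_, fun i hi => ?_⟩
  · exact (Subgroup.mem_centralizer_singleton_iff.1 (φ g).2).symm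
  · rw [MonoidHom.comp_apply, hφ i hi]
    rfl

/-- the product with a cyclic group -/
theorem exists_prod {H : Type*} [Group H] {n : ℕ} [NeZero n] (c : H) (hcn : c ^ n = 1) (X0 X1 X2 : H)
    (h0 : X0 ^ 3 = 1) (h1 : X1 ^ 3 = 1) (h2 : X2 ^ 3 = 1) (h01 : (X0 * X1) ^ 2 = 1) (h02 : (X0 * X2) ^ 2 = 1)
    (h12 : (X1 * X2) ^ 2 = 1) (hc0 : c * X0 = X0 * c) (hc1 : c * X1 = X1 * c) (hc2 : c * X2 = X2 * c) :
    ∃ f : C n × A5 →* H, (∀ k, f (k, 1) = c ^ (k.toAdd.val)) ∧
      (∀ k, f (k, s3) = c ^ (k.toAdd.val) * X0) ∧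
      (∀ k, f (k, s3 * s31 * s32) = c ^ (k.toAdd.val) * (X0 * X1 * X2)) ∧
      (∀ k, f (k, (s3 * s31 * s32) ^ 2) = c ^ (k.toAdd.val) * (X0 * X1 * X2) ^ 2) := by
  let X : ℕ → H := fun i => if i = 0 then X0 else if i = 1 then X1 else X2
  have hX0 : X 0 = X0 := rfl
  have hX1 : X 1 = X1 := rfl
  have hX2 : X 2 = X2 := rfl
  have hrel : Rel 3 X := by
    refine ⟨fun i hi => ?_, fun i hi j hj hij => ?_⟩
    · interval_cases i
      · exact h0
      · exact h1
      · exact h2
    · interval_cases i <;> interval_cases j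
      · exact absurd rfl hij
      · exact h01
      · exact h02
      · exact swap_rel h01
      · exact absurd rfl hij
      · exact h12
      · exact swap_rel h02
      · exact swap_rel h12
      · exact absurd rfl hij
  have hcX : ∀ i, c * X i = X i * c := by
    intro i
    show c * (if i = 0 then X0 else if i = 1 then X1 else X2) = (if i = 0 then X0 else if i = 1 then X1 else X2) * c
    split_ifs
    · exact hc0
    · exact hc1
    · exact hc2
  obtain ⟨ψ, hψ, hs⟩ := exists_A5 c X hrel hcX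
  have e0 : ψ s3 = X0 := hs 0 (by norm_num)
  have e1 : ψ s31 = X1 := hs 1 (by norm_num)
  have e2 : ψ s32 = X2 := hs 2 (by norm_num)
  have hcomm : ∀ (m : C n) (g : A5), Commute (powHom n c hcn m) (ψ g) := fun m g =>
    (show Commute c (ψ g) from hψ g).pow_left _
  have hf : ∀ k g, MonoidHom.noncommCoprod (powHom n c hcn) ψ hcomm (k, g) = c ^ (k.toAdd.val) * ψ g :=
    fun k g => rfl
  refine ⟨MonoidHom.noncommCoprod (powHom n c hcn) ψ hcomm, fun k => ?_, fun k => ?_, fun k => ?_, fun k => ?_⟩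
  · rw [hf, map_one, mul_one]
  · rw [hf, e0]
  · rw [hf, map_mul, map_mul, e0, e1, e2]
  · rw [hf, map_pow, map_mul, map_mul, e0, e1, e2]

end Cfsg.Agent.H846.E72
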