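import Cfsg.Agent.H846.E72.Semi
import Cfsg.Agent.H846.E72.AFive
import Cfsg.Agent.H484.Pos
import Cfsg.Agent.H943.E7V.Iface
import Cfsg.Agent.CharDeep.LinearChar

/-!
# Positivity for the groups `N : 3` and `C_n × A₅` (TEAM E72, row `J₂` of S5935)
-/

set_option autoImplicit false

namespace Cfsg.Agent.H846.E72

open Cfsg IsLocalRing Module Cfsg.Agent.H657 Cfsg.Agent.H943.E7V Semi AFive

variable {M : Ideal AlgInt} {V : ValuationSubring ℂ} {S : Type*} [Group S]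

/-- a primitive cube root of unity -/
theorem exists_omega : ∃ w : ℂˣ, w ^ 3 = 1 ∧ (1 : ℂ) + w + w * w = 0 := by
  have h := Complex.isPrimitiveRoot_exp 3 (by norm_num)
  have h1 := h.pow_eq_one
  have h2 := h.geom_sum_eq_zero (by norm_num)
  set z := Complex.exp (2 * Real.pi * Complex.I / (3 : ℕ)) with hz
  have hz0 : z ≠ 0 := Complex.exp_ne_zero _
  refine ⟨Units.mk0 z hz0, ?_, ?_⟩
  · ext
    rw [Units.val_pow_eq_pow_val, Units.val_mk0, h1, Units.val_one]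
  · rw [Units.val_mk0]
    rw [Finset.sum_range_succ, Finset.sum_range_succ, Finset.sum_range_one, pow_zero, pow_one, pow_two] at h2
    exact h2

/-- positivity for `N : 3`, `N` of odd order, a constant value outside `N` -/
theorem semi_pos (hM : IsPModular 2 M) (hV : Above M V) {n : ℕ}
    (σ : Representation (ResidueField V) S (Fin n → ResidueField V)) {N : Type*} [Group N] [Fintype N]
    (hN : ¬ 2 ∣ 3 * Fintype.card N) (φ : C 3 →* MulAut N) (f : N ⋊[φ] C 3 →* S) {A B : ℂ}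
    (hA : ∑ v : N, bc 2 σ (f ⟨v, 1⟩) = A) (hB : ∀ v k, k ≠ 1 → bc 2 σ (f ⟨v, k⟩) = B) :
    (∃ d : ℕ, A + 2 * Fintype.card N * B = d * (3 * Fintype.card N)) ∧
      (∃ d : ℕ, A - Fintype.card N * B = d * (3 * Fintype.card N)) := by
  classical
  obtain ⟨w, hw3, hw⟩ := exists_omega
  have hreg : ∀ g : N ⋊[φ] C 3, IsPRegular 2 g := by
    intro g h
    apply hN
    rw [← card_semi φ, ← Nat.card_eq_fintype_card]
    exact h.trans (orderOf_dvd_natCard g)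
  have hg1 : g1 ≠ 1 := by decide +kernel
  have hg2 : g1 * g1 ≠ 1 := by decide +kernel
  constructor
  · obtain ⟨d, -, hd⟩ := H484.Pos.pos hM hV (σ.comp f) Characters.Core.isIrr_one
      (fun g hg => absurd (hreg g) hg)
    refine ⟨d, ?_⟩
    rw [card_semi, sum_semi] at hd
    simp only [Pi.one_apply, mul_one, one_mul] at hd
    have h1 : ∑ v : N, (bc 2 (σ.comp f) ⟨v, 1⟩ + bc 2 (σ.comp f) ⟨v, g1⟩ + bc 2 (σ.comp f) ⟨v, g1 * g1⟩) =
        A + 2 * Fintype.card N * B := by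
      have h2 : ∀ v : N, bc 2 (σ.comp f) ⟨v, 1⟩ + bc 2 (σ.comp f) ⟨v, g1⟩ + bc 2 (σ.comp f) ⟨v, g1 * g1⟩ =
          bc 2 σ (f ⟨v, 1⟩) + 2 * B := by
        intro v
        have e1 : bc 2 (σ.comp f) ⟨v, g1⟩ = B := hB v g1 hg1
        have e2 : bc 2 (σ.comp f) ⟨v, g1 * g1⟩ = B := hB v _ hg2
        have e3 : bc 2 (σ.comp f) ⟨v, 1⟩ = bc 2 σ (f ⟨v, 1⟩) := rfl
        rw [e1, e2, e3]
        ring
      simp only [h2, Finset.sum_add_distrib, hA, Finset.sum_const, Finset.card_univ, nsmul_eq_mul]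
      ring
    rw [h1] at hd
    rw [← hd]
    push_cast
    ring
  · let l : N ⋊[φ] C 3 →* ℂˣ := (powHom 3 w hw3).comp SemidirectProduct.rightHom
    obtain ⟨d, -, hd⟩ := H484.Pos.pos hM hV (σ.comp f) (CharDeep.LinearChar.isIrrCharacter_of_hom l)
      (fun g hg => absurd (hreg g) hg)
    refine ⟨d, ?_⟩
    rw [card_semi, sum_semi] at hd
    have l1 : ∀ v : N, ((l (⟨v, 1⟩ : N ⋊[φ] C 3)⁻¹ : ℂˣ) : ℂ) = 1 := by
      intro v
      show (((powHom 3 w hw3) (1 : C 3)⁻¹ : ℂˣ) : ℂ) = 1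
      rw [inv_one, map_one, Units.val_one]
    have l2 : ∀ v : N, ((l (⟨v, g1⟩ : N ⋊[φ] C 3)⁻¹ : ℂˣ) : ℂ) = w * w := by
      intro v
      show (((w ^ 2 : ℂˣ)) : ℂ) = w * w
      rw [pow_two, Units.val_mul]
    have l3 : ∀ v : N, ((l (⟨v, g1 * g1⟩ : N ⋊[φ] C 3)⁻¹ : ℂˣ) : ℂ) = w := by
      intro v
      show (((w ^ 1 : ℂˣ)) : ℂ) = w
      rw [pow_one]
    have h1 : ∑ v : N, (bc 2 (σ.comp f) ⟨v, 1⟩ * ((l (⟨v, 1⟩ : N ⋊[φ] C 3)⁻¹ : ℂˣ) : ℂ) +
        bc 2 (σ.comp f) ⟨v, g1⟩ * ((l (⟨v, g1⟩ : N ⋊[φ] C 3)⁻¹ : ℂˣ) : ℂ) +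
        bc 2 (σ.comp f) ⟨v, g1 * g1⟩ * ((l (⟨v, g1 * g1⟩ : N ⋊[φ] C 3)⁻¹ : ℂˣ) : ℂ)) =
        A - Fintype.card N * B := by
      have h2 : ∀ v : N, (bc 2 (σ.comp f) ⟨v, 1⟩ * ((l (⟨v, 1⟩ : N ⋊[φ] C 3)⁻¹ : ℂˣ) : ℂ) +
          bc 2 (σ.comp f) ⟨v, g1⟩ * ((l (⟨v, g1⟩ : N ⋊[φ] C 3)⁻¹ : ℂˣ) : ℂ) +
          bc 2 (σ.comp f) ⟨v, g1 * g1⟩ * ((l (⟨v, g1 * g1⟩ : N ⋊[φ] C 3)⁻¹ : ℂˣ) : ℂ)) =
          bc 2 σ (f ⟨v, 1⟩) + (- B) := by
        intro v
        have e1 : bc 2 (σ.comp f) ⟨v, g1⟩ = B := hB v g1 hg1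
        have e2 : bc 2 (σ.comp f) ⟨v, g1 * g1⟩ = B := hB v _ hg2
        have e3 : bc 2 (σ.comp f) ⟨v, 1⟩ = bc 2 σ (f ⟨v, 1⟩) := rfl
        rw [l1, l2, l3, e1, e2, e3]
        linear_combination B * hw
      simp only [h2, Finset.sum_add_distrib, hA, Finset.sum_const, Finset.card_univ, nsmul_eq_mul]
      ring
    rw [h1, map_one, Units.val_one, one_mul] at hd
    rw [← hd]
    push_cast
    ring

theorem card_C (n : ℕ) [NeZero n] : Fintype.card (C n) = n := by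
  rw [Fintype.card_multiplicative, ZMod.card]

theorem sum_C {n : ℕ} [NeZero n] (F : C n → ℂ) {A B : ℂ} (h1 : F 1 = A) (h : ∀ c, c ≠ 1 → F c = B) :
    ∑ c, F c = A + (n - 1) * B := by
  have h2 : ∀ c, F c = (if c = 1 then A - B else 0) + B := by
    intro c
    by_cases hc : c = 1
    · rw [hc, h1, if_pos rfl]
      ring
    · rw [h c hc, if_neg hc, zero_add]
  simp only [h2, Finset.sum_add_distrib, Finset.sum_ite_eq', Finset.mem_univ, if_true, Finset.sum_const,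
    Finset.card_univ, nsmul_eq_mul]
  rw [card_C]
  ring

/-- positivity for `C_n × A₅`, the character of degree 4 -/
theorem prod_pos (hM : IsPModular 2 M) (hV : Above M V) {n : ℕ} [NeZero n] (hn : n ∣ 15) {m : ℕ}
    (σ : Representation (ResidueField V) S (Fin m → ResidueField V)) (f : C n × A5 →* S) {P Q R : C n → ℂ}
    (h1 : ∀ c, bc 2 σ (f (c, 1)) = P c) (h2 : ∀ c g, fx g = 2 → bc 2 σ (f (c, g)) = Q c)
    (h0 : ∀ c g, fx g = 0 → bc 2 σ (f (c, g)) = R c) :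
    ∃ e : ℕ, ∑ c, (4 * P c + 20 * Q c - 24 * R c) = (e : ℂ) * (60 * n) := by
  classical
  have hχ := Blocks.CliffordCentral.isIrrCharacter_comp AFive.irr (MonoidHom.snd (C n) A5) Prod.snd_surjective
  obtain ⟨e, -, he⟩ := H484.Pos.pos_mult hM hV (σ.comp f) hχ (by
    rintro ⟨c, g⟩ hg
    show chi g = 0
    rcases fx_pow g with h | h
    · rw [chi_eq, h]
      norm_num
    · exfalso
      apply hg
      intro h3
      have h4 : (c, g) ^ 15 = 1 := by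
        rw [Prod.pow_mk, h]
        have h5 : c ^ 15 = 1 := by
          obtain ⟨k, hk⟩ := hn
          have h6 : c ^ n = 1 := by
            have := pow_card_eq_one (x := c)
            rwa [card_C] at this
          rw [hk, pow_mul, h6, one_pow]
        rw [h5]
        rfl
      have h5 := h3.trans (orderOf_dvd_of_pow_eq_one h4)
      norm_num at h5)
  refine ⟨e, ?_⟩
  have hc : Nat.card (C n × A5) = n * 60 := by
    rw [Nat.card_prod]
    congr 1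
    · rw [Nat.card_eq_fintype_card, card_C]
    · rw [Nat.card_eq_fintype_card]
      decide +kernel
  rw [hc, Fintype.sum_prod_type] at he
  have h3 : ∀ c : C n, ∑ g : A5, bc 2 (MonoidHom.comp σ f) (c, g) * chi ((MonoidHom.snd (C n) A5) (c, g)⁻¹) =
      4 * P c + 20 * Q c - 24 * R c := by
    intro c
    rw [← sum_chi (Φ := fun g => bc 2 (σ.comp f) (c, g)) (h1 c) (h2 c) (h0 c)]
    refine Finset.sum_congr rfl fun g _ => ?_
    congr 1
    show chi g⁻¹ = chi g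
    rw [chi_eq, chi_eq, fx_inv]
  rw [Finset.sum_congr rfl fun c _ => h3 c] at he
  rw [he]
  push_cast
  ring

end Cfsg.Agent.H846.E72
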