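import Mathlib

/-!
# Homomorphisms from semidirect products with a group of order three (TEAM E72, row `J₂` of S5935)
-/

set_option autoImplicit false

namespace Cfsg.Agent.H846.E72.Semi

/-- the cyclic group of order `n`, multiplicatively -/
abbrev C (n : ℕ) : Type := Multiplicative (ZMod n)

/-- the homomorphism of a cyclic group given by the powers of an element -/
def powHom {J : Type*} [Group J] (n : ℕ) [NeZero n] (x : J) (hx : x ^ n = 1) : C n →* J where
  toFun k := x ^ (k.toAdd.val)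
  map_one' := by
    rw [toAdd_one, ZMod.val_zero, pow_zero]
  map_mul' a b := by
    rw [toAdd_mul, ZMod.val_add, ← pow_add]
    conv_rhs => rw [← Nat.div_add_mod (ZMod.val a.toAdd + ZMod.val b.toAdd) n, pow_add, pow_mul, hx, one_pow, one_mul]

theorem powHom_apply {J : Type*} [Group J] (n : ℕ) [NeZero n] (x : J) (hx : x ^ n = 1) (k : C n) :
    powHom n x hx k = x ^ (k.toAdd.val) := rfl

theorem commute_powHom {J : Type*} [Group J] {n m : ℕ} [NeZero n] [NeZero m] {x y : J} (hx : x ^ n = 1)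
    (hy : y ^ m = 1) (h : x * y = y * x) (i : C n) (j : C m) : Commute (powHom n x hx i) (powHom m y hy j) := by
  rw [powHom_apply, powHom_apply]
  exact (show Commute x y from h).pow_pow _ _

/-- the compatibility for the semidirect product -/
theorem compat {N J : Type*} [Group N] [Group J] (F : N →* J) (α : MulAut N) (h3 : α ^ 3 = 1) (w : J)
    (hw : w ^ 3 = 1) (h : ∀ v, F (α v) = w * F v * w⁻¹) (g : C 3) :
    F.comp ((powHom 3 α h3 g).toMonoidHom) = (MulAut.conj (powHom 3 w hw g)).toMonoidHom.comp F := by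
  ext v
  have key : ∀ k : ℕ, ∀ v, F ((α ^ k) v) = w ^ k * F v * (w ^ k)⁻¹ := by
    intro k
    induction k with
    | zero => intro v; simp
    | succ k ih =>
      intro v
      rw [pow_succ, MulAut.mul_apply, ih, h, pow_succ]
      group
  exact key _ v

/-- the homomorphism from the semidirect product -/
def semiHom {N J : Type*} [Group N] [Group J] (F : N →* J) (α : MulAut N) (h3 : α ^ 3 = 1) (w : J)
    (hw : w ^ 3 = 1) (h : ∀ v, F (α v) = w * F v * w⁻¹) : N ⋊[powHom 3 α h3] C 3 →* J :=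
  SemidirectProduct.lift F (powHom 3 w hw) (compat F α h3 w hw h)

theorem semiHom_apply {N J : Type*} [Group N] [Group J] (F : N →* J) (α : MulAut N) (h3 : α ^ 3 = 1) (w : J)
    (hw : w ^ 3 = 1) (h : ∀ v, F (α v) = w * F v * w⁻¹) (v : N) (g : C 3) :
    semiHom F α h3 w hw h ⟨v, g⟩ = F v * w ^ (g.toAdd.val) := rfl

/-- the homomorphism from a product of two cyclic groups -/
def pairHom {J : Type*} [Group J] {n : ℕ} [NeZero n] {x y : J} (hx : x ^ n = 1)
    (hy : y ^ n = 1) (h : x * y = y * x) : C n × C n →* J :=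
  MonoidHom.noncommCoprod (powHom n x hx) (powHom n y hy) (commute_powHom hx hy h)

theorem pairHom_apply {J : Type*} [Group J] {n : ℕ} [NeZero n] {x y : J} (hx : x ^ n = 1)
    (hy : y ^ n = 1) (h : x * y = y * x) (v : C n × C n) :
    pairHom hx hy h v = x ^ (v.1.toAdd.val) * y ^ (v.2.toAdd.val) := rfl

/-- the automorphism of order three of `5 ^ 2` -/
def al1 : MulAut (C 5 × C 5) where
  toFun v := (v.2⁻¹, v.1 * v.2⁻¹)
  invFun v := (v.2 * v.1⁻¹, v.1⁻¹)
  left_inv v := by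
    ext <;> simp
  right_inv v := by
    ext <;> simp
  map_mul' v v' := by
    ext1
    · simp [mul_comm]
    · simp only [Prod.snd_mul, Prod.fst_mul, mul_inv]
      exact mul_mul_mul_comm _ _ _ _

theorem al1_three : al1 ^ 3 = 1 := by
  ext1 v
  revert v
  decide +kernel

/-- the automorphism of order three of `3 ^ 2` -/
def al2 : MulAut (C 3 × C 3) where
  toFun v := (v.1, v.2 * v.1)
  invFun v := (v.1, v.2 * v.1⁻¹)
  left_inv v := by
    ext <;> simp
  right_inv v := by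
    ext <;> simp
  map_mul' v v' := by
    ext1
    · simp
    · simp only [Prod.snd_mul, Prod.fst_mul]
      exact mul_mul_mul_comm _ _ _ _

theorem al2_three : al2 ^ 3 = 1 := by
  ext1 v
  revert v
  decide +kernel

/-- the group `5 ^ 2 : 3` -/
abbrev T1 : Type := (C 5 × C 5) ⋊[powHom 3 al1 al1_three] C 3
/-- the group `3 ^ (1 + 2)` -/
abbrev T2 : Type := (C 3 × C 3) ⋊[powHom 3 al2 al2_three] C 3

/-- the generator of the group of order three -/
def g1 : C 3 := Multiplicative.ofAdd 1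

/-- conjugates in `T1` -/
def inn1 (u v : C 5 × C 5) (k : C 3) : T1 := ⟨u, 1⟩ * ⟨v, k⟩ * ⟨u, 1⟩⁻¹
/-- conjugates in `T2` -/
def inn2 (u : C 3 × C 3) (t : T2) : T2 := ⟨u, 1⟩ * t * ⟨u, 1⟩⁻¹

theorem conj1 : ∀ (v1 v2 : C 5) (k : C 3), k ≠ 1 → ∃ u1 u2 : C 5,
    inn1 (u1, u2) 1 g1 = ⟨(v1, v2), k⟩ ∨ inn1 (u1, u2) 1 g1⁻¹ = ⟨(v1, v2), k⟩ := by
  decide +kernel

theorem conj2 : ∀ (v1 v2 k : C 3), k ≠ 1 → ∃ u1 u2 : C 3,
    inn2 (u1, u2) ⟨1, g1⟩ = ⟨(v1, v2), k⟩ ∨ inn2 (u1, u2) ⟨1, g1⟩⁻¹ = ⟨(v1, v2), k⟩ ∨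
    inn2 (u1, u2) ⟨(g1, 1), g1⟩ = ⟨(v1, v2), k⟩ ∨ inn2 (u1, u2) ⟨(g1, 1), g1⟩⁻¹ = ⟨(v1, v2), k⟩ ∨
    inn2 (u1, u2) ⟨(g1, 1), g1 * g1⟩ = ⟨(v1, v2), k⟩ ∨ inn2 (u1, u2) ⟨(g1, 1), g1 * g1⟩⁻¹ = ⟨(v1, v2), k⟩ := by
  decide +kernel

theorem C3_cases : ∀ k : C 3, k = 1 ∨ k = g1 ∨ k = g1 * g1 := by decide +kernel

theorem sum_C3 {M : Type*} [AddCommMonoid M] (F : C 3 → M) : ∑ k : C 3, F k = F 1 + F g1 + F (g1 * g1) := by
  have h : (Finset.univ : Finset (C 3)) = {1, g1, g1 * g1} := by decide +kernel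
  have h1 : (1 : C 3) ∉ ({g1, g1 * g1} : Finset (C 3)) := by decide +kernel
  have h2 : g1 ∉ ({g1 * g1} : Finset (C 3)) := by decide +kernel
  rw [h, Finset.sum_insert h1, Finset.sum_insert h2, Finset.sum_singleton, add_assoc]

/-- the semidirect product as a finite type -/
instance instFin {N : Type*} [Group N] [Fintype N] (φ : C 3 →* MulAut N) : Fintype (N ⋊[φ] C 3) :=
  Fintype.ofEquiv _ SemidirectProduct.equivProd.symm

theorem card_semi {N : Type*} [Group N] [Fintype N] (φ : C 3 →* MulAut N) :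
    Fintype.card (N ⋊[φ] C 3) = 3 * Fintype.card N := by
  rw [Fintype.card_congr SemidirectProduct.equivProd, Fintype.card_prod, mul_comm]
  rfl

theorem sum_semi {M : Type*} [AddCommMonoid M] {N : Type*} [Group N] [Fintype N] (φ : C 3 →* MulAut N)
    (F : N ⋊[φ] C 3 → M) : ∑ t, F t = ∑ v : N, (F ⟨v, 1⟩ + F ⟨v, g1⟩ + F ⟨v, g1 * g1⟩) := by
  rw [← Equiv.sum_comp (SemidirectProduct.equivProd (φ := φ)).symm, Fintype.sum_prod_type]
  exact Finset.sum_congr rfl fun v _ => sum_C3 _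

end Cfsg.Agent.H846.E72.Semi
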